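import Mathlib
import Groth.Prelude.Def_EGA41

/-!
Imperfection modules along a change of base (rows S5835, S5836, S5837).
-/

set_option autoImplicit false

open TensorProduct KaehlerDifferential

namespace Groth.Agent.Imp14

universe u v w x

section Ker

variable (R A B : Type*) [CommRing R] [CommRing A] [CommRing B] [Algebra R A] [Algebra R B] [Algebra A B]
  [IsScalarTower R A B]

theorem ker_map_eq_span :
    LinearMap.ker (KaehlerDifferential.map R A B B) =
      Submodule.span B (Set.range fun a : A => D R B (algebraMap A B a)) := by
  rw [← range_mapBaseChange]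
  refine le_antisymm ?_ (Submodule.span_le.2 ?_)
  · rintro _ ⟨y, rfl⟩
    induction y with
    | zero => simp
    | add a b ha hb => rw [map_add]; exact add_mem ha hb
    | tmul c ω =>
      rw [mapBaseChange_tmul]
      refine Submodule.smul_mem _ _ ?_
      induction (span_range_derivation R A).ge (Submodule.mem_top (x := ω)) using Submodule.span_induction with
      | mem x hx =>
        obtain ⟨a, rfl⟩ := hx
        rw [map_D]
        exact Submodule.subset_span ⟨a, rfl⟩
      | zero => simp
      | add a b _ _ ha hb => rw [map_add]; exact add_mem ha hb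
      | smul r a _ ha =>
        rw [LinearMap.map_smul]
        exact Submodule.smul_of_tower_mem _ r ha
  · rintro _ ⟨a, rfl⟩
    exact ⟨1 ⊗ₜ D R A a, by rw [mapBaseChange_tmul, one_smul, map_D]⟩

variable (C : Type*) [CommRing C] [Algebra B C]

theorem ker_map_baseChange_eq_span :
    LinearMap.ker ((KaehlerDifferential.map R A B B).baseChange C) =
      Submodule.span C (Set.range fun a : A => (1 : C) ⊗ₜ[B] D R B (algebraMap A B a)) := by
  have h1 : LinearMap.ker ((KaehlerDifferential.map R A B B).baseChange C) =
      (LinearMap.ker (KaehlerDifferential.map R A B B)).baseChange C := by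
    ext z
    exact (lTensor_exact C (LinearMap.exact_subtype_ker_map (KaehlerDifferential.map R A B B))
      (map_surjective R A B) z)
  rw [h1, ker_map_eq_span, Submodule.baseChange_span, ← Set.range_comp]
  rfl

end Ker

section Lift

variable {R A B C : Type*} [CommRing R] [CommRing A] [CommRing B] [CommRing C] [Algebra R A] [Algebra R B]
  [Algebra R C] [Algebra A B] [Algebra A C] [Algebra B C] [IsScalarTower R A B] [IsScalarTower R A C]
  [IsScalarTower R B C] [IsScalarTower A B C]

variable (R A B C) in
/-- `C ⊗_A Ω_{A/R} → C ⊗_B Ω_{B/R}`. -/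
noncomputable abbrev through : C ⊗[A] Ω[A⁄R] →ₗ[C] C ⊗[B] Ω[B⁄R] :=
  ((mapBaseChange R A B).baseChange C).comp
    (TensorProduct.AlgebraTensorModule.cancelBaseChange A B C C Ω[A⁄R]).symm.toLinearMap

theorem through_tmul (c : C) (ω : Ω[A⁄R]) :
    through R A B C (c ⊗ₜ[A] ω) = c ⊗ₜ[B] KaehlerDifferential.map R R A B ω := by
  simp [through]

theorem mapBaseChange_through (z : C ⊗[A] Ω[A⁄R]) :
    mapBaseChange R B C (through R A B C z) = mapBaseChange R A C z := by
  induction z with
  | zero => simp
  | add x y hx hy => rw [map_add, map_add, map_add, hx, hy]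
  | tmul c ω =>
    rw [through_tmul, mapBaseChange_tmul, mapBaseChange_tmul]
    congr 1
    induction (span_range_derivation R A).ge (Submodule.mem_top (x := ω)) using Submodule.span_induction with
    | mem x hx =>
      obtain ⟨a, rfl⟩ := hx
      rw [map_D, map_D, map_D, ← IsScalarTower.algebraMap_apply]
    | zero => simp
    | add x y _ _ hx hy => simp [hx, hy]
    | smul a x _ hx =>
      rw [LinearMap.map_smul, LinearMap.map_smul (KaehlerDifferential.map R R A C),
        ← IsScalarTower.algebraMap_smul B a (KaehlerDifferential.map R R A B x),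
        LinearMap.map_smul, hx, IsScalarTower.algebraMap_smul]

/-- The span of the `1 ⊗ d a` is mapped onto the kernel of `Ω_{C/R} → Ω_{C/A}`. -/
theorem map_span_eq_ker :
    (Submodule.span C (Set.range fun a : A => (1 : C) ⊗ₜ[B] D R B (algebraMap A B a))).map
        (mapBaseChange R B C) = LinearMap.ker (KaehlerDifferential.map R A C C) := by
  rw [ker_map_eq_span, Submodule.map_span, ← Set.range_comp]
  congr 2
  funext a
  simp only [Function.comp_apply, mapBaseChange_tmul, one_smul, map_D]
  rw [← IsScalarTower.algebraMap_apply A B C]

theorem mapBaseChange_baseChange_map (η : C ⊗[B] Ω[B⁄R]) :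
    mapBaseChange A B C ((KaehlerDifferential.map R A B B).baseChange C η) =
      KaehlerDifferential.map R A C C (mapBaseChange R B C η) := by
  induction η with
  | zero => simp
  | add a b ha hb => simp [ha, hb]
  | tmul c ω =>
    rw [LinearMap.baseChange_tmul, mapBaseChange_tmul, mapBaseChange_tmul, LinearMap.map_smul]
    congr 1
    induction (span_range_derivation R B).ge (Submodule.mem_top (x := ω)) using Submodule.span_induction with
    | mem x hx =>
      obtain ⟨b, rfl⟩ := hx
      simp [map_D]
    | zero => simp
    | add a b _ _ ha hb => simp [ha, hb]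
    | smul r a _ ha =>
      rw [LinearMap.map_smul, LinearMap.map_smul, LinearMap.map_smul (KaehlerDifferential.map R R B C),
        ← IsScalarTower.algebraMap_smul C r (KaehlerDifferential.map R R B C a),
        LinearMap.map_smul (KaehlerDifferential.map R A C C), ha, IsScalarTower.algebraMap_smul]

/-- Elements of the imperfection module over `A` lift to the imperfection module over `R`. -/
theorem exists_lift (ω : C ⊗[B] Ω[B⁄A]) (hω : mapBaseChange A B C ω = 0) :
    ∃ η : C ⊗[B] Ω[B⁄R], mapBaseChange R B C η = 0 ∧
      (KaehlerDifferential.map R A B B).baseChange C η = ω := by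
  obtain ⟨η, hη⟩ : ∃ η, (KaehlerDifferential.map R A B B).baseChange C η = ω :=
    LinearMap.lTensor_surjective C (map_surjective R A B) ω
  have h1 : mapBaseChange R B C η ∈ LinearMap.ker (KaehlerDifferential.map R A C C) := by
    rw [LinearMap.mem_ker, ← mapBaseChange_baseChange_map, hη, hω]
  rw [← map_span_eq_ker (B := B)] at h1
  obtain ⟨v, hv, hvη⟩ := h1
  rw [SetLike.mem_coe, ← ker_map_baseChange_eq_span, LinearMap.mem_ker] at hv
  exact ⟨η - v, by rw [map_sub, hvη, sub_self], by rw [map_sub, hη, hv, sub_zero]⟩

theorem injective_mapBaseChange_of_injective (h : Function.Injective (mapBaseChange R B C)) :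
    Function.Injective (mapBaseChange A B C) := by
  rw [injective_iff_map_eq_zero]
  intro ω hω
  obtain ⟨η, h0, rfl⟩ := exists_lift (R := R) ω hω
  rw [h (h0.trans (map_zero _).symm), map_zero]

end Lift

end Groth.Agent.Imp14
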