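import Mathlib
import Groth.Agent.Imp14.Basic

/-!
The defect of admissibility in towers (rows S5836, S5837).
-/

set_option autoImplicit false

open TensorProduct KaehlerDifferential

namespace Groth.Agent.Imp14

universe u u' w

section Subfields

variable {R S T B C : Type*} [CommRing R] [CommRing S] [CommRing T] [CommRing B] [CommRing C]
  [Algebra R S] [Algebra R T] [Algebra S T] [Algebra R B] [Algebra S B] [Algebra T B]
  [IsScalarTower R S B] [IsScalarTower S T B] [IsScalarTower R T B] [Algebra B C]

theorem map_baseChange_map (η : C ⊗[B] Ω[B⁄R]) :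
    (KaehlerDifferential.map S T B B).baseChange C ((KaehlerDifferential.map R S B B).baseChange C η) =
      (KaehlerDifferential.map R T B B).baseChange C η := by
  rw [← LinearMap.comp_apply, ← LinearMap.baseChange_comp]
  congr 2
  refine Derivation.liftKaehlerDifferential_unique _ _ ?_
  ext b
  simp [map_D]

end Subfields

section Exact

theorem exact_baseChange {L M V W : Type*} [Field L] [CommRing M] [Algebra L M] [AddCommGroup V] [Module L V]
    [AddCommGroup W] [Module L W] (φ : V →ₗ[L] W) (P : Submodule L V) (hP : LinearMap.ker φ = P) :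
    Function.Exact (P.subtype.baseChange M) (φ.baseChange M) := by
  subst hP
  exact Module.Flat.lTensor_exact M (LinearMap.exact_subtype_ker_map φ)

theorem rank_baseChange_eq {L M : Type w} [Field L] [Field M] [Algebra L M] {V : Type w} [AddCommGroup V]
    [Module L V] : Module.rank M (M ⊗[L] V) = Module.rank L V := by
  rw [Module.rank_baseChange, Cardinal.lift_id]

end Exact

section Extensions

variable (k₀ : Type u) (k : Type u') (K L M : Type w) [Field k₀] [Field k] [Field K] [Field L] [Field M]
  [Algebra k₀ k] [Algebra k₀ K] [Algebra k K] [IsScalarTower k₀ k K] [Algebra k₀ L] [Algebra k L]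
  [IsScalarTower k₀ k L] [Algebra K L] [Algebra K M] [Algebra L M] [IsScalarTower K L M]
  [Algebra k₀ M] [Algebra k M] [IsScalarTower k₀ K L] [IsScalarTower k K L]
  [IsScalarTower k₀ K M] [IsScalarTower k K M] [IsScalarTower k₀ L M] [IsScalarTower k L M]

theorem map_comm (ω : Ω[K⁄k₀]) :
    KaehlerDifferential.map k₀ k L L (KaehlerDifferential.map k₀ k₀ K L ω) =
      KaehlerDifferential.map k k K L (KaehlerDifferential.map k₀ k K K ω) := by
  induction (span_range_derivation k₀ K).ge (Submodule.mem_top (x := ω)) using Submodule.span_induction with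
  | mem x hx => obtain ⟨a, rfl⟩ := hx; simp [map_D]
  | zero => simp
  | add a b _ _ ha hb => simp [ha, hb]
  | smul r a _ ha =>
    rw [LinearMap.map_smul, LinearMap.map_smul (KaehlerDifferential.map k₀ k K K), LinearMap.map_smul,
      ← IsScalarTower.algebraMap_smul L r (KaehlerDifferential.map k₀ k₀ K L a),
      LinearMap.map_smul, ha, IsScalarTower.algebraMap_smul]

theorem baseChange_map_through (z : M ⊗[K] Ω[K⁄k₀]) :
    (KaehlerDifferential.map k₀ k L L).baseChange M (through k₀ K L M z) =
      through k K L M ((KaehlerDifferential.map k₀ k K K).baseChange M z) := by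
  induction z with
  | zero => simp
  | add a b ha hb => simp only [map_add, ha, hb]
  | tmul c ω => rw [through_tmul, LinearMap.baseChange_tmul, LinearMap.baseChange_tmul, through_tmul, map_comm]

set_option backward.isDefEq.respectTransparency false in
theorem rank_ker_inter :
    Module.rank M ↥(LinearMap.ker ((KaehlerDifferential.map k₀ k K K).baseChange M) ⊓
        LinearMap.ker (through k₀ K L M)) =
      Module.rank L ↥(EGA41.imperfection k₀ K L ⊓
        LinearMap.ker ((KaehlerDifferential.map k₀ k K K).baseChange L)) := by
  let f := (KaehlerDifferential.map k₀ k K K).baseChange L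
  let μ := mapBaseChange k₀ K L
  let P : Submodule L (L ⊗[K] Ω[K⁄k₀]) := EGA41.imperfection k₀ K L ⊓ LinearMap.ker f
  let φ := μ.prod f
  have hP : LinearMap.ker φ = P := LinearMap.ker_prod μ f
  let c := TensorProduct.AlgebraTensorModule.cancelBaseChange K L M M Ω[K⁄k₀]
  let ι := P.subtype.baseChange M
  let ψ : M ⊗[L] P →ₗ[M] M ⊗[K] Ω[K⁄k₀] := c.toLinearMap.comp ι
  have hψi : Function.Injective ψ :=
    c.injective.comp (Module.Flat.lTensor_preserves_injective_linearMap P.subtype P.subtype_injective)
  have hex : Function.Exact ι (φ.baseChange M) := exact_baseChange φ P hP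
  have hprod : ∀ x : M ⊗[L] (L ⊗[K] Ω[K⁄k₀]), TensorProduct.prodRight L M M _ _ (φ.baseChange M x) =
      (μ.baseChange M x, f.baseChange M x) := by
    intro x
    induction x with
    | zero => simp only [map_zero]; rfl
    | add a b ha hb => simp only [map_add, ha, hb, Prod.mk_add_mk]
    | tmul a b => simp [φ]
  have hf : ∀ x, (KaehlerDifferential.map k₀ k K K).baseChange M (c x) =
      TensorProduct.AlgebraTensorModule.cancelBaseChange K L M M Ω[K⁄k] (f.baseChange M x) := by
    intro x
    induction x with
    | zero => simp
    | add a b ha hb => simp only [map_add, ha, hb]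
    | tmul a b =>
      induction b with
      | zero => simp
      | add p q hp hq => simp only [tmul_add, map_add, hp, hq]
      | tmul b ω => simp [c, f]
  have hrange : LinearMap.range ψ =
      LinearMap.ker ((KaehlerDifferential.map k₀ k K K).baseChange M) ⊓ LinearMap.ker (through k₀ K L M) := by
    ext y
    obtain ⟨x, rfl⟩ := c.surjective y
    have h1 : c x ∈ LinearMap.range ψ ↔ φ.baseChange M x = 0 := by
      rw [hex x]
      exact ⟨fun ⟨t, ht⟩ => ⟨t, c.injective ht⟩, fun ⟨t, ht⟩ => ⟨t, congrArg c ht⟩⟩
    rw [h1, ← (TensorProduct.prodRight L M M _ _).map_eq_zero_iff, hprod, Prod.mk_eq_zero, Submodule.mem_inf,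
      LinearMap.mem_ker, LinearMap.mem_ker, hf, LinearEquiv.map_eq_zero_iff, and_comm]
    refine and_congr_right' ?_
    simp [through, c, μ]
  rw [← hrange, ← (LinearEquiv.ofInjective ψ hψi).rank_eq]
  exact rank_baseChange_eq (L := L) (M := M) (V := ↥P)

set_option backward.isDefEq.respectTransparency false in
theorem rank_defect :
    Module.rank M ↥(EGA41.imperfection k₀ K M ⊓
          LinearMap.ker ((KaehlerDifferential.map k₀ k K K).baseChange M)) =
      Module.rank M ↥(EGA41.imperfection k₀ L M ⊓
            LinearMap.ker ((KaehlerDifferential.map k₀ k L L).baseChange M)) +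
        Module.rank L ↥(EGA41.imperfection k₀ K L ⊓
            LinearMap.ker ((KaehlerDifferential.map k₀ k K K).baseChange L)) := by
  let X := EGA41.imperfection k₀ K M ⊓ LinearMap.ker ((KaehlerDifferential.map k₀ k K K).baseChange M)
  let Y := EGA41.imperfection k₀ L M ⊓ LinearMap.ker ((KaehlerDifferential.map k₀ k L L).baseChange M)
  let g := through k₀ K L M
  have hg : ∀ x ∈ X, g x ∈ Y := fun x hx => by
    refine ⟨?_, ?_⟩
    · change mapBaseChange k₀ L M (through k₀ K L M x) = 0
      rw [mapBaseChange_through]
      exact hx.1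
    · change (KaehlerDifferential.map k₀ k L L).baseChange M (through k₀ K L M x) = 0
      rw [baseChange_map_through, LinearMap.mem_ker.1 hx.2, map_zero]
  let φ : X →ₗ[M] Y := g.restrict hg
  have hsurj : Function.Surjective φ := by
    rintro ⟨y, hy1, hy2⟩
    have h2 : y ∈ Submodule.map g (LinearMap.ker ((KaehlerDifferential.map k₀ k K K).baseChange M)) := by
      rw [SetLike.mem_coe, ker_map_baseChange_eq_span] at hy2
      rw [ker_map_baseChange_eq_span, Submodule.map_span, ← Set.range_comp]
      convert hy2 using 3
      funext a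
      simp only [Function.comp_apply, g, through_tmul, map_D]
      rw [← IsScalarTower.algebraMap_apply]
    obtain ⟨x, hx, rfl⟩ := h2
    refine ⟨⟨x, ?_, hx⟩, rfl⟩
    change mapBaseChange k₀ K M x = 0
    rw [← mapBaseChange_through (B := L)]
    exact hy1
  have hker : Module.rank M (LinearMap.ker φ) =
      Module.rank M ↥(LinearMap.ker ((KaehlerDifferential.map k₀ k K K).baseChange M) ⊓ LinearMap.ker g) := by
    refine LinearEquiv.rank_eq ?_
    refine
      { toFun := fun x => ⟨x.1.1, x.1.2.2, congrArg Subtype.val (x.2 : φ x.1 = 0)⟩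
        map_add' := fun a b => rfl
        map_smul' := fun a b => rfl
        invFun := fun x => ⟨⟨x.1, by
          change mapBaseChange k₀ K M x.1 = 0
          rw [← mapBaseChange_through (B := L), show through k₀ K L M x.1 = 0 from x.2.2, map_zero], x.2.1⟩,
          Subtype.ext (x.2.2 : g x.1 = 0)⟩
        left_inv := fun x => rfl
        right_inv := fun x => rfl }
  have h := LinearMap.rank_eq_of_surjective (R := M) (M := ↥X) (M₁ := ↥Y) (f := φ) hsurj
  rw [hker] at h
  rw [← rank_ker_inter k₀ k K L M]
  exact h

end Extensions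

end Groth.Agent.Imp14
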